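import Cfsg.Agent.H765.D3.Cross
import Cfsg.Agent.H765.D3.Sub

/-!
# S5261, part E: linear algebra on `K / F` (task TE-LA1, helper521)

`Cub φ` and `K` finite (mostly only finite dimensional) in all statements.

* `finrank_K`, `card_K` : `|K| = |F|³`;
* `card_perp` : `|s^⊥| = |F|²`;
* `exists_smul_of_perp` : `s^⊥ ≤ t^⊥` implies `t = l • s`;
* `exists_pair` : `b ↦ (Tr(a b), Tr(c b))` is onto for independent `a, c`;
* `exists_smul_of_pair` : `{a, c}^⊥` is a line for independent `a, c`;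
* char 2: `exists_cr_iff`, `card_range_cr`, `exists_cr_eq_smul`, `cr_ne_zero_two`.
-/

set_option autoImplicit false
set_option linter.unusedSectionVars false

namespace Cfsg.Agent.H521.TE.LA

open Module
open Cfsg.Agent.H765.D3
open Cfsg.Agent.Hex.Defs (sh cr nm tr)

variable {F K : Type*} [Field F] [Field K] [Algebra F K]
variable (φ : K ≃ₐ[F] K) [Cub φ]

theorem orderOf_phi : orderOf φ = 3 := by
  have : Fact (Nat.Prime 3) := ⟨Nat.prime_three⟩
  apply orderOf_eq_prime
  · ext t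
    show (φ ^ 3) t = t
    rw [pow_succ, pow_two]
    exact phi3 φ t
  · intro h
    obtain ⟨t, ht⟩ := Cub.ne (φ := φ)
    apply ht
    rw [h]
    rfl

section Fin

variable [FiniteDimensional F K]

include φ in
theorem finrank_K : finrank F K = 3 := by
  have h1 := IntermediateField.finrank_fixedField_eq_card (F := F) (E := K) (Subgroup.zpowers φ)
  have h2 : IntermediateField.fixedField (Subgroup.zpowers φ) = ⊥ := by
    rw [eq_bot_iff]
    intro x hx
    have h3 : φ x = x := (IntermediateField.mem_fixedField_iff _ _).1 hx φ (Subgroup.mem_zpowers φ)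
    obtain ⟨s, hs⟩ := exists_coe φ h3
    rw [IntermediateField.mem_bot]
    exact ⟨s, hs⟩
  rw [h2, Nat.card_zpowers, orderOf_phi] at h1
  rw [← h1]
  exact (IntermediateField.finrank_bot' (F := F) (E := K)).symm

include φ in
theorem card_K [Finite F] : Nat.card K = Nat.card F ^ 3 := by
  have h := Module.natCard_eq_pow_finrank (K := F) (V := K)
  rwa [finrank_K φ] at h

/-! ### The trace form -/

/-- `x ↦ Tr(s x)` -/
noncomputable def trL (s : K) : K →ₗ[F] F where
  toFun x := tr φ (s * x)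
  map_add' x y := by rw [mul_add, tr_add]
  map_smul' r x := by rw [mul_smul_comm, tr_smul]; rfl

theorem trL_apply (s x : K) : trL φ s x = tr φ (s * x) := rfl

/-- `s^⊥` -/
noncomputable def perp (s : K) : Submodule F K := LinearMap.ker (trL φ s)

theorem mem_perp {s x : K} : x ∈ perp φ s ↔ tr φ (s * x) = 0 := Iff.rfl

theorem trL_ne_zero {s : K} (hs : s ≠ 0) : trL φ s ≠ 0 := by
  intro h
  apply hs
  apply tr_nondeg φ
  intro t
  exact DFunLike.congr_fun h t

theorem trL_surjective {s : K} (hs : s ≠ 0) : Function.Surjective (trL φ s) :=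
  LinearMap.surjective (trL_ne_zero φ hs)

/-- `Tr(s x)` takes every value -/
theorem exists_tr_eq {s : K} (hs : s ≠ 0) (u : F) : ∃ x : K, tr φ (s * x) = u := trL_surjective φ hs u

theorem finrank_perp {s : K} (hs : s ≠ 0) : finrank F (perp φ s) = 2 := by
  have h1 := LinearMap.finrank_range_add_finrank_ker (trL φ s)
  rw [LinearMap.range_eq_top.2 (trL_surjective φ hs), finrank_top, finrank_self, finrank_K φ] at h1
  rw [perp]
  omega

theorem card_perp' [Finite F] {s : K} (hs : s ≠ 0) : Nat.card (perp φ s) = Nat.card F ^ 2 := by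
  have h := Module.natCard_eq_pow_finrank (K := F) (V := perp φ s)
  rwa [finrank_perp φ hs] at h

/-- `|{x : Tr(s x) = 0}| = q²` -/
theorem card_perp [Finite F] {s : K} (hs : s ≠ 0) : Nat.card {x : K // tr φ (s * x) = 0} = Nat.card F ^ 2 :=
  card_perp' φ hs

/-- `s^⊥ ≤ t^⊥` implies that `t` is a multiple of `s` -/
theorem exists_smul_of_perp {s t : K} (h : ∀ x : K, tr φ (s * x) = 0 → tr φ (t * x) = 0) :
    ∃ l : F, t = l • s := by
  by_cases hs : s = 0
  · refine ⟨0, ?_⟩
    rw [zero_smul]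
    apply tr_nondeg φ
    intro x
    apply h
    rw [hs, zero_mul, tr_zero]
  obtain ⟨x0, hx0⟩ := exists_tr_eq φ hs 1
  refine ⟨tr φ (t * x0), ?_⟩
  rw [← sub_eq_zero]
  apply tr_nondeg φ
  intro x
  have h1 := h (x - tr φ (s * x) • x0) (by
    rw [mul_sub, tr_sub, mul_smul_comm, tr_smul, hx0, mul_one, sub_self])
  rw [mul_sub, tr_sub, mul_smul_comm, tr_smul] at h1
  rw [sub_mul, tr_sub, smul_mul_assoc, tr_smul]
  linear_combination h1

/-- for independent `a`, `c` the map `b ↦ (Tr(a b), Tr(c b))` is onto -/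
theorem exists_pair {a c : K} (ha : a ≠ 0) (hc : ∀ l : F, c ≠ l • a) (u v : F) :
    ∃ b : K, tr φ (a * b) = u ∧ tr φ (c * b) = v := by
  obtain ⟨b1, hb1, hb1'⟩ : ∃ b : K, tr φ (a * b) = 0 ∧ tr φ (c * b) ≠ 0 := by
    by_contra hcon
    push Not at hcon
    obtain ⟨l, hl⟩ := exists_smul_of_perp φ hcon
    exact hc l hl
  obtain ⟨b2, hb2⟩ := exists_tr_eq φ ha 1
  refine ⟨u • b2 + ((v - u * tr φ (c * b2)) / tr φ (c * b1)) • b1, ?_, ?_⟩
  · rw [mul_add, tr_add, mul_smul_comm, mul_smul_comm, tr_smul, tr_smul, hb1, hb2]; ring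
  · rw [mul_add, tr_add, mul_smul_comm, mul_smul_comm, tr_smul, tr_smul, div_mul_cancel₀ _ hb1']; ring

/-- for independent `a`, `c` the space `{a, c}^⊥` is a line -/
theorem exists_smul_of_pair {a c : K} (ha : a ≠ 0) (hc : ∀ l : F, c ≠ l • a) {s x : K} (hs : s ≠ 0)
    (hsa : tr φ (a * s) = 0) (hsc : tr φ (c * s) = 0) (hxa : tr φ (a * x) = 0) (hxc : tr φ (c * x) = 0) :
    ∃ l : F, x = l • s := by
  let f : K →ₗ[F] F × F := (trL φ a).prod (trL φ c)
  have hf : Function.Surjective f := by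
    rintro ⟨u, v⟩
    obtain ⟨b, h1, h2⟩ := exists_pair φ ha hc u v
    exact ⟨b, Prod.ext h1 h2⟩
  have h1 := LinearMap.finrank_range_add_finrank_ker f
  rw [LinearMap.range_eq_top.2 hf, finrank_top, finrank_prod, finrank_self, finrank_K φ] at h1
  have h2 : finrank F (LinearMap.ker f) = 1 := by omega
  have hs' : s ∈ LinearMap.ker f := Prod.ext hsa hsc
  have hx' : x ∈ LinearMap.ker f := Prod.ext hxa hxc
  have h3 : (⟨s, hs'⟩ : LinearMap.ker f) ≠ 0 := fun h => hs (congrArg Subtype.val h)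
  obtain ⟨l, hl⟩ := (finrank_eq_one_iff_of_nonzero' _ h3).1 h2 ⟨x, hx'⟩
  exact ⟨l, (congrArg Subtype.val hl).symm⟩

/-- `{a, c}^⊥` contains a nonzero element -/
theorem exists_ne_zero_pair (a c : K) : ∃ s : K, s ≠ 0 ∧ tr φ (a * s) = 0 ∧ tr φ (c * s) = 0 := by
  let f : K →ₗ[F] F × F := (trL φ a).prod (trL φ c)
  have h1 : LinearMap.ker f ≠ ⊥ := by
    apply LinearMap.ker_ne_bot_of_finrank_lt
    rw [finrank_prod, finrank_self, finrank_K φ]
    norm_num
  obtain ⟨s, hs, hs0⟩ := (Submodule.ne_bot_iff _).1 h1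
  exact ⟨s, hs0, congrArg Prod.fst hs, congrArg Prod.snd hs⟩

/-- `(s^⊥)` is spanned by two independent elements in it -/
theorem exists_comb_of_perp {a c s : K} (ha : a ≠ 0) (hc : ∀ l : F, c ≠ l • a) (hs : s ≠ 0)
    (hsa : tr φ (s * a) = 0) (hsc : tr φ (s * c) = 0) {x : K} (hx : tr φ (s * x) = 0) :
    ∃ l m : F, x = l • a + m • c := by
  have hli : LinearIndependent F ![a, c] := by
    rw [LinearIndependent.pair_iff]
    intro l m h
    by_cases hm : m = 0
    · rw [hm, zero_smul, add_zero] at h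
      exact ⟨(smul_eq_zero.1 h).resolve_right ha, hm⟩
    · exfalso
      apply hc (-(m⁻¹ * l))
      have h1 : m • c = -(l • a) := eq_neg_of_add_eq_zero_right h
      have h2 : c = m⁻¹ • m • c := by rw [inv_smul_smul₀ hm]
      rw [h2, h1, smul_neg, neg_smul, mul_smul]
  have h1 : Submodule.span F (Set.range ![a, c]) = perp φ s := by
    apply Submodule.eq_of_le_of_finrank_eq
    · rw [Submodule.span_le]
      rintro _ ⟨i, rfl⟩
      fin_cases i
      · exact hsa
      · exact hsc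
    · rw [finrank_span_eq_card hli, finrank_perp φ hs]; rfl
  have h2 : x ∈ Submodule.span F (Set.range ![a, c]) := by rw [h1]; exact hx
  rw [Matrix.range_cons, Matrix.range_cons, Matrix.range_empty, Set.union_empty, Set.singleton_union,
    Submodule.mem_span_pair] at h2
  obtain ⟨l, m, h⟩ := h2
  exact ⟨l, m, h.symm⟩

/-! ### The cross product in characteristic two -/

/-- `c ↦ a ⋆ c` -/
def crL (a : K) : K →ₗ[F] K where
  toFun x := cr φ a x
  map_add' x y := by rw [cr_add_right]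
  map_smul' r x := by rw [cr_smul_right]; rfl

theorem crL_apply (a x : K) : crL φ a x = cr φ a x := rfl

theorem tr_cr_self_two (h2 : (2 : K) = 0) (a c : K) : tr φ (a * cr φ a c) = 0 := by
  rw [← tr_cr, cr_self, h2, zero_mul, zero_mul, tr_zero]

theorem ker_crL_two (h2 : (2 : K) = 0) {a : K} (ha : a ≠ 0) :
    LinearMap.ker (crL φ a) = Submodule.span F {a} := by
  ext b
  rw [LinearMap.mem_ker, crL_apply, Submodule.mem_span_singleton]
  constructor
  · intro h
    obtain ⟨s, hs⟩ := cr_eq_zero_two φ h2 ha h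
    exact ⟨s, hs.symm⟩
  · rintro ⟨s, rfl⟩
    exact cr_smul_self_two φ h2 s a

theorem range_crL_two (h2 : (2 : K) = 0) {a : K} (ha : a ≠ 0) : LinearMap.range (crL φ a) = perp φ a := by
  apply Submodule.eq_of_le_of_finrank_eq
  · rintro _ ⟨c, rfl⟩
    exact tr_cr_self_two φ h2 a c
  · have h1 := LinearMap.finrank_range_add_finrank_ker (crL φ a)
    rw [ker_crL_two φ h2 ha, finrank_span_singleton ha, finrank_K φ] at h1
    rw [finrank_perp φ ha]
    omega

/-- char 2: `a ⋆ K = a^⊥` -/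
theorem exists_cr_iff (h2 : (2 : K) = 0) {a : K} (ha : a ≠ 0) (b : K) :
    (∃ c, cr φ a c = b) ↔ tr φ (a * b) = 0 := by
  have h : b ∈ LinearMap.range (crL φ a) ↔ b ∈ perp φ a := by rw [range_crL_two φ h2 ha]
  exact h

/-- char 2: `|a ⋆ K| = q²` -/
theorem card_range_cr [Finite F] (h2 : (2 : K) = 0) {a : K} (ha : a ≠ 0) :
    Nat.card {b : K // ∃ c, cr φ a c = b} = Nat.card F ^ 2 := by
  rw [← card_perp φ ha]
  exact Nat.card_congr (Equiv.subtypeEquivRight fun b => exists_cr_iff φ h2 ha b)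

theorem cr_ne_zero_two (h2 : (2 : K) = 0) {a c : K} (ha : a ≠ 0) (hc : ∀ l : F, c ≠ l • a) : cr φ a c ≠ 0 := by
  intro h
  obtain ⟨l, hl⟩ := cr_eq_zero_two φ h2 ha h
  exact hc l hl

/-- char 2: `a, b ∈ s^⊥` implies `a ⋆ b ∈ F s` -/
theorem exists_cr_eq_smul (h2 : (2 : K) = 0) {s a b : K} (hs : s ≠ 0) (ha : tr φ (s * a) = 0)
    (hb : tr φ (s * b) = 0) : ∃ l : F, cr φ a b = l • s := by
  by_cases ha0 : a = 0
  · exact ⟨0, by rw [ha0, cr_zero_left, zero_smul]⟩
  by_cases hab : ∃ l : F, b = l • a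
  · obtain ⟨l, rfl⟩ := hab
    exact ⟨0, by rw [cr_smul_self_two φ h2, zero_smul]⟩
  push Not at hab
  refine exists_smul_of_pair φ ha0 hab hs ?_ ?_ (tr_cr_self_two φ h2 a b) ?_
  · rwa [mul_comm]
  · rwa [mul_comm]
  · rw [cr_comm]
    exact tr_cr_self_two φ h2 b a

/-- char 2: the same with `l ≠ 0` for independent `a, b` -/
theorem exists_cr_eq_smul' (h2 : (2 : K) = 0) {s a b : K} (hs : s ≠ 0) (ha : tr φ (s * a) = 0)
    (hb : tr φ (s * b) = 0) (ha0 : a ≠ 0) (hab : ∀ l : F, b ≠ l • a) : ∃ l : F, l ≠ 0 ∧ cr φ a b = l • s := by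
  obtain ⟨l, hl⟩ := exists_cr_eq_smul φ h2 hs ha hb
  refine ⟨l, ?_, hl⟩
  rintro rfl
  rw [zero_smul] at hl
  exact cr_ne_zero_two φ h2 ha0 hab hl

end Fin

/-- the characteristic: `(2 : K) = 0` iff `p = 2` -/
theorem two_eq_zero_iff {p : ℕ} [CharP K p] (hp : p.Prime) : (2 : K) = 0 ↔ p = 2 := by
  have h := CharP.cast_eq_zero_iff K p 2
  rw [Nat.cast_ofNat] at h
  rw [h]
  exact (Nat.prime_dvd_prime_iff_eq hp Nat.prime_two)

/-! ### the same facts with the hypotheses used in the tasks -/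

/-- independence in the form of `LinearIndependent` -/
theorem indep_iff {a c : K} : LinearIndependent F ![a, c] ↔ a ≠ 0 ∧ ∀ l : F, c ≠ l • a := by
  constructor
  · intro h
    refine ⟨h.ne_zero 0, fun l hl => ?_⟩
    have h1 := (LinearIndependent.pair_iff.1 h) l (-1) (by rw [hl, neg_smul, one_smul, add_neg_cancel])
    exact absurd h1.2 (by simp)
  · rintro ⟨ha, hc⟩
    rw [LinearIndependent.pair_iff]
    intro l m h
    by_cases hm : m = 0
    · rw [hm, zero_smul, add_zero] at h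
      exact ⟨(smul_eq_zero.1 h).resolve_right ha, hm⟩
    · exfalso
      apply hc (-(m⁻¹ * l))
      have h1 : m • c = -(l • a) := eq_neg_of_add_eq_zero_right h
      have h2 : c = m⁻¹ • m • c := by rw [inv_smul_smul₀ hm]
      rw [h2, h1, smul_neg, neg_smul, mul_smul]

end Cfsg.Agent.H521.TE.LA
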