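import Cfsg.Agent.H521.TE.LA
import Cfsg.Agent.H802.TE.Defs

/-!
# S5261, part E: orders of subgroups of `Sy φ` (task TE-LA1, helper521)

* `card_of_iff` : order of a subgroup given by independent conditions on the coordinates;
* `T4 A B` : the subgroup `{x ∈ Z4 | x.x5 ∈ A, x.x3 ∈ B}`, `card_T4`; `T3 B`, `card_T3`; `T32 B C`;
* `card_R`, `card_Cs`;
* `D1 E`, `D6 E`, `D16 E`, `D5 E`, `D3 E`, `D2 E`, `D15 E` : the images of the coordinates, and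
  `card_eq_D1 : |E| = |D1 E| |E ⊓ Q1|`, ... (`E` arbitrary);
* `relIndex_eq` : `|A : A ∩ E| |E ∩ A| = |A|`.
-/

set_option autoImplicit false
set_option linter.unusedSectionVars false

namespace Cfsg.Agent.H521.TE.Ord

open Cfsg.Agent.H765.D3 Cfsg.Agent.H765.D3.Sy
open Cfsg.Agent.H802.TE
open Cfsg.Agent.H521.TE.LA
open Cfsg.Agent.Hex.Defs (sh cr nm tr)

variable {F K : Type*} [Field F] [Field K] [Algebra F K]
variable {φ : K ≃ₐ[F] K} [Cub φ]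

example [Finite K] : FiniteDimensional F K := inferInstance

/-- order of a subgroup given by independent conditions on the coordinates -/
theorem card_of_iff (H : Subgroup (Sy φ)) (A1 : Set K) (A6 : Set F) (A5 A3 : Set K) (A2 A4 : Set F)
    (h : ∀ x : Sy φ, x ∈ H ↔ x.x1 ∈ A1 ∧ x.x6 ∈ A6 ∧ x.x5 ∈ A5 ∧ x.x3 ∈ A3 ∧ x.x2 ∈ A2 ∧ x.x4 ∈ A4) :
    Nat.card H = Nat.card A1 * Nat.card A6 * Nat.card A5 * Nat.card A3 * Nat.card A2 * Nat.card A4 := by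
  let e : H ≃ A1 × A6 × A5 × A3 × A2 × A4 :=
    { toFun := fun x => (⟨x.1.x1, ((h x.1).1 x.2).1⟩, ⟨x.1.x6, ((h x.1).1 x.2).2.1⟩,
        ⟨x.1.x5, ((h x.1).1 x.2).2.2.1⟩, ⟨x.1.x3, ((h x.1).1 x.2).2.2.2.1⟩,
        ⟨x.1.x2, ((h x.1).1 x.2).2.2.2.2.1⟩, ⟨x.1.x4, ((h x.1).1 x.2).2.2.2.2.2⟩)
      invFun := fun v => ⟨⟨v.1, v.2.1, v.2.2.1, v.2.2.2.1, v.2.2.2.2.1, v.2.2.2.2.2⟩,
        (h _).2 ⟨v.1.2, v.2.1.2, v.2.2.1.2, v.2.2.2.1.2, v.2.2.2.2.1.2, v.2.2.2.2.2.2⟩⟩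
      left_inv := fun x => rfl
      right_inv := fun v => rfl }
  rw [Nat.card_congr e]
  simp only [Nat.card_prod]
  ring

theorem card_zero_set {A : Type*} [AddGroup A] : Nat.card ({0} : Set A) = 1 := by simp
theorem card_univ_set {A : Type*} : Nat.card (Set.univ : Set A) = Nat.card A := Nat.card_congr (Equiv.Set.univ A)

/-! ### Subgroups of `Z4` given by conditions on `x5` and `x3` -/

variable (φ) in
/-- `{x ∈ Z4 | x.x5 ∈ A, x.x3 ∈ B}` -/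
def T4 (A B : AddSubgroup K) : Subgroup (Sy φ) where
  carrier := {x | (x.x1 = 0 ∧ x.x6 = 0) ∧ x.x5 ∈ A ∧ x.x3 ∈ B}
  one_mem' := ⟨⟨rfl, rfl⟩, A.zero_mem, B.zero_mem⟩
  mul_mem' {x y} hx hy := by
    refine ⟨(Z4 φ).mul_mem hx.1 hy.1, ?_, ?_⟩
    · rw [mul_x5, hx.1.1, smul_zero, add_zero]
      exact A.add_mem hx.2.1 hy.2.1
    · rw [mul_x3, hx.1.1, cr_zero_left, sh_zero, smul_zero, add_zero, add_zero]
      exact B.add_mem hx.2.2 hy.2.2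
  inv_mem' {x} hx := by
    refine ⟨(Z4 φ).inv_mem hx.1, ?_, ?_⟩
    · rw [inv_x5, hx.1.1, smul_zero, add_zero]
      exact A.neg_mem hx.2.1
    · rw [inv_x3, hx.1.1, cr_zero_left, sh_zero, smul_zero, sub_zero, add_zero]
      exact B.neg_mem hx.2.2

theorem mem_T4 {A B : AddSubgroup K} {x : Sy φ} :
    x ∈ T4 φ A B ↔ (x.x1 = 0 ∧ x.x6 = 0) ∧ x.x5 ∈ A ∧ x.x3 ∈ B := Iff.rfl

theorem T4_le_Z4 {A B : AddSubgroup K} : T4 φ A B ≤ Z4 φ := fun _ h => h.1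

/-- `|T4 A B| = |A| |B| q²` -/
theorem card_T4 (A B : AddSubgroup K) : Nat.card (T4 φ A B) = Nat.card A * Nat.card B * Nat.card F ^ 2 := by
  rw [card_of_iff (T4 φ A B) {0} {0} A B Set.univ Set.univ]
  · simp only [card_zero_set, card_univ_set]
    show 1 * 1 * Nat.card A * Nat.card B * Nat.card F * Nat.card F = _
    ring
  · intro x
    rw [mem_T4]
    simp only [Set.mem_singleton_iff, SetLike.mem_coe, Set.mem_univ, and_true]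
    tauto

variable (φ) in
/-- `{x ∈ Z3 | x.x3 ∈ B}` -/
def T3 (B : AddSubgroup K) : Subgroup (Sy φ) where
  carrier := {x | (x.x1 = 0 ∧ x.x6 = 0 ∧ x.x5 = 0) ∧ x.x3 ∈ B}
  one_mem' := ⟨⟨rfl, rfl, rfl⟩, B.zero_mem⟩
  mul_mem' {x y} hx hy := by
    refine ⟨(Z3 φ).mul_mem hx.1 hy.1, ?_⟩
    rw [mul_x3, hx.1.1, cr_zero_left, sh_zero, smul_zero, add_zero, add_zero]
    exact B.add_mem hx.2 hy.2
  inv_mem' {x} hx := by
    refine ⟨(Z3 φ).inv_mem hx.1, ?_⟩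
    rw [inv_x3, hx.1.1, cr_zero_left, sh_zero, smul_zero, sub_zero, add_zero]
    exact B.neg_mem hx.2

theorem mem_T3 {B : AddSubgroup K} {x : Sy φ} :
    x ∈ T3 φ B ↔ (x.x1 = 0 ∧ x.x6 = 0 ∧ x.x5 = 0) ∧ x.x3 ∈ B := Iff.rfl

theorem T3_le_Z3 {B : AddSubgroup K} : T3 φ B ≤ Z3 φ := fun _ h => h.1

/-- `|T3 B| = |B| q²` -/
theorem card_T3 (B : AddSubgroup K) : Nat.card (T3 φ B) = Nat.card B * Nat.card F ^ 2 := by
  rw [card_of_iff (T3 φ B) {0} {0} {0} B Set.univ Set.univ]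
  · simp only [card_zero_set, card_univ_set]
    show 1 * 1 * 1 * Nat.card B * Nat.card F * Nat.card F = _
    ring
  · intro x
    rw [mem_T3]
    simp only [Set.mem_singleton_iff, SetLike.mem_coe, Set.mem_univ, and_true]
    tauto

variable (φ) in
/-- `{x ∈ Z3 | x.x3 ∈ B, x.x2 ∈ C}` -/
def T32 (B : AddSubgroup K) (C : AddSubgroup F) : Subgroup (Sy φ) where
  carrier := {x | (x.x1 = 0 ∧ x.x6 = 0 ∧ x.x5 = 0) ∧ x.x3 ∈ B ∧ x.x2 ∈ C}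
  one_mem' := ⟨⟨rfl, rfl, rfl⟩, B.zero_mem, C.zero_mem⟩
  mul_mem' {x y} hx hy := by
    refine ⟨(Z3 φ).mul_mem hx.1 hy.1, ?_, ?_⟩
    · rw [mul_x3, hx.1.1, cr_zero_left, sh_zero, smul_zero, add_zero, add_zero]
      exact B.add_mem hx.2.1 hy.2.1
    · rw [mul_x2, hx.1.1, zero_mul, sh_zero, zero_mul, tr_zero, nm_zero, mul_zero, add_zero, add_zero, add_zero]
      exact C.add_mem hx.2.2 hy.2.2
  inv_mem' {x} hx := by
    refine ⟨(Z3 φ).inv_mem hx.1, ?_, ?_⟩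
    · rw [inv_x3, hx.1.1, cr_zero_left, sh_zero, smul_zero, sub_zero, add_zero]
      exact B.neg_mem hx.2.1
    · rw [inv_x2, hx.1.1, zero_mul, sh_zero, zero_mul, tr_zero, nm_zero, mul_zero, add_zero, sub_zero, add_zero]
      exact C.neg_mem hx.2.2

theorem mem_T32 {B : AddSubgroup K} {C : AddSubgroup F} {x : Sy φ} :
    x ∈ T32 φ B C ↔ (x.x1 = 0 ∧ x.x6 = 0 ∧ x.x5 = 0) ∧ x.x3 ∈ B ∧ x.x2 ∈ C := Iff.rfl

/-- `|T32 B C| = |B| |C| q` -/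
theorem card_T32 (B : AddSubgroup K) (C : AddSubgroup F) :
    Nat.card (T32 φ B C) = Nat.card B * Nat.card C * Nat.card F := by
  rw [card_of_iff (T32 φ B C) {0} {0} {0} B C Set.univ]
  · simp only [card_zero_set, card_univ_set]
    show 1 * 1 * 1 * Nat.card B * Nat.card C * Nat.card F = _
    ring
  · intro x
    rw [mem_T32]
    simp only [Set.mem_singleton_iff, SetLike.mem_coe, Set.mem_univ, and_true]
    tauto

variable (φ) in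
/-- `s^⊥` as an additive subgroup -/
noncomputable def perpA (s : K) : AddSubgroup K where
  carrier := {x | tr φ (s * x) = 0}
  zero_mem' := by show tr φ (s * 0) = 0; rw [mul_zero, tr_zero]
  add_mem' {x y} hx hy := by
    show tr φ (s * (x + y)) = 0
    rw [mul_add, tr_add, hx, hy, add_zero]
  neg_mem' {x} hx := by
    show tr φ (s * (-x)) = 0
    rw [mul_neg, tr_neg, hx, neg_zero]

theorem mem_perpA {s x : K} : x ∈ perpA φ s ↔ tr φ (s * x) = 0 := Iff.rfl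

theorem card_perpA [Finite K] [Finite F] {s : K} (hs : s ≠ 0) : Nat.card (perpA φ s) = Nat.card F ^ 2 :=
  card_perp φ hs

/-- `F a` as an additive subgroup -/
def lineA (F : Type*) {K : Type*} [Field F] [Field K] [Algebra F K] (a : K) : AddSubgroup K :=
  (Submodule.span F {a}).toAddSubgroup

theorem mem_lineA {a x : K} : x ∈ lineA F a ↔ ∃ l : F, x = l • a := by
  show x ∈ Submodule.span F {a} ↔ _
  rw [Submodule.mem_span_singleton]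
  exact exists_congr fun l => eq_comm

theorem card_lineA [Finite F] {a : K} (ha : a ≠ 0) : Nat.card (lineA F a) = Nat.card F := by
  have h := Module.natCard_eq_pow_finrank (K := F) (V := Submodule.span F {a})
  rwa [finrank_span_singleton ha, pow_one] at h

/-! ### Orders of the standard subgroups in terms of `q = |F|` -/

section Card

variable [Finite K] [Finite F]

theorem card_Sy : Nat.card (Sy φ) = Nat.card F ^ 12 := by
  rw [card_eq, card_K φ]; ring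

theorem card_Z3' : Nat.card (Z3 φ) = Nat.card F ^ 5 := by
  rw [card_Z3, card_K φ]; ring

theorem card_Z4' : Nat.card (Z4 φ) = Nat.card F ^ 8 := by
  rw [card_Z4, card_K φ]; ring

theorem card_Q1' : Nat.card (Q1 φ) = Nat.card F ^ 9 := by
  rw [card_Q1, card_K φ]; ring

theorem card_Q2' : Nat.card (Q2 φ) = Nat.card F ^ 11 := by
  rw [card_Q2, card_K φ]; ring

theorem one_lt_card_F : 1 < Nat.card F := Finite.one_lt_card

end Card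

section CardU

universe u
variable {F K : Type u} [Field F] [Field K] [Algebra F K] {φ : K ≃ₐ[F] K} [Cub φ] [Finite K] [Finite F]

theorem card_R : Nat.card (R φ) = Nat.card F ^ 8 := by
  rw [card_of_iff (R φ) Set.univ {0} {0} Set.univ Set.univ Set.univ]
  · rw [card_zero_set, card_zero_set, card_univ_set, card_univ_set, card_K φ]
    ring
  · intro x
    rw [mem_R]
    simp only [Set.mem_singleton_iff, Set.mem_univ, and_true, true_and]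

theorem card_Cs {s : K} (hs : s ≠ 0) : Nat.card (Cs φ s) = Nat.card F ^ 9 := by
  rw [card_of_iff (Cs φ s) (perpA φ s) {0} (perpA φ s) Set.univ Set.univ Set.univ]
  · rw [card_zero_set, card_univ_set, card_univ_set, card_K φ]
    show Nat.card (perpA φ s) * 1 * Nat.card (perpA φ s) * _ * _ * _ = _
    rw [card_perpA hs]
    ring
  · intro x
    rw [mem_Cs]
    simp only [Set.mem_singleton_iff, Set.mem_univ, and_true, SetLike.mem_coe, mem_perpA]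
    tauto

end CardU

/-! ### Images of the coordinates -/

section Images

/-- order of a subgroup and of the image of an additive coordinate -/
theorem card_fib {G : Type*} [Group G] {A : Type*} [AddGroup A] (E N M : Subgroup G) (hNM : N ≤ M) (f : G → A)
    (hf : ∀ x ∈ M, ∀ y ∈ M, f (x * y) = f x + f y) (hker : ∀ x ∈ M, f x = 0 ↔ x ∈ N) (D : AddSubgroup A)
    (hD : ∀ a, a ∈ D ↔ ∃ x ∈ E ⊓ M, f x = a) :
    Nat.card ↥(E ⊓ M) = Nat.card D * Nat.card ↥(E ⊓ N) := by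
  let g : ↥(E ⊓ M) →* Multiplicative D :=
    { toFun := fun x => Multiplicative.ofAdd ⟨f x.1, (hD _).2 ⟨x.1, x.2, rfl⟩⟩
      map_one' := by
        have h1 : f 1 = 0 := (hker 1 M.one_mem).2 N.one_mem
        apply congrArg Multiplicative.ofAdd
        exact Subtype.ext h1
      map_mul' := by
        intro x y
        rw [← ofAdd_add]
        apply congrArg Multiplicative.ofAdd
        exact Subtype.ext (hf _ x.2.2 _ y.2.2) }
  have hsurj : Function.Surjective g := by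
    intro d
    obtain ⟨x, hx, hx'⟩ := (hD _).1 d.toAdd.2
    refine ⟨⟨x, hx⟩, ?_⟩
    apply congrArg Multiplicative.ofAdd
    exact Subtype.ext hx'
  have h1 := g.ker.card_mul_index
  rw [Subgroup.index_ker, MonoidHom.range_eq_top.2 hsurj, Subgroup.card_top] at h1
  have h2 : Nat.card g.ker = Nat.card ↥(E ⊓ N) := by
    refine Nat.card_congr ⟨fun x => ⟨x.1.1, x.1.2.1, ?_⟩, fun x => ⟨⟨x.1, x.2.1, hNM x.2.2⟩, ?_⟩,
      fun x => rfl, fun x => rfl⟩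
    · have h3 := x.2
      rw [MonoidHom.mem_ker] at h3
      have h4 : f x.1.1 = 0 := congrArg Subtype.val (congrArg Multiplicative.toAdd h3)
      exact (hker _ x.1.2.2).1 h4
    · rw [MonoidHom.mem_ker]
      apply congrArg Multiplicative.ofAdd
      exact Subtype.ext ((hker _ (hNM x.2.2)).2 x.2.2)
  rw [← h1, h2, mul_comm]
  rfl

/-- `{x.x1 : x ∈ E}` -/
def D1 (E : Subgroup (Sy φ)) : AddSubgroup K where
  carrier := {a | ∃ x ∈ E, x.x1 = a}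
  zero_mem' := ⟨1, E.one_mem, rfl⟩
  add_mem' := by
    rintro _ _ ⟨x, hx, rfl⟩ ⟨y, hy, rfl⟩
    exact ⟨x * y, E.mul_mem hx hy, rfl⟩
  neg_mem' := by
    rintro _ ⟨x, hx, rfl⟩
    exact ⟨x⁻¹, E.inv_mem hx, rfl⟩

theorem mem_D1 {E : Subgroup (Sy φ)} {a : K} : a ∈ D1 E ↔ ∃ x ∈ E, x.x1 = a := Iff.rfl

theorem card_eq_D1 (E : Subgroup (Sy φ)) : Nat.card E = Nat.card (D1 E) * Nat.card ↥(E ⊓ Q1 φ) := by
  have h := card_fib E (Q1 φ) ⊤ le_top (fun x => x.x1) (fun _ _ _ _ => rfl) (fun _ _ => Iff.rfl) (D1 E)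
    (fun a => by rw [inf_top_eq]; rfl)
  rwa [inf_top_eq] at h

/-- `{x.x6 : x ∈ E}` -/
def D6 (E : Subgroup (Sy φ)) : AddSubgroup F where
  carrier := {a | ∃ x ∈ E, x.x6 = a}
  zero_mem' := ⟨1, E.one_mem, rfl⟩
  add_mem' := by
    rintro _ _ ⟨x, hx, rfl⟩ ⟨y, hy, rfl⟩
    exact ⟨x * y, E.mul_mem hx hy, rfl⟩
  neg_mem' := by
    rintro _ ⟨x, hx, rfl⟩
    exact ⟨x⁻¹, E.inv_mem hx, rfl⟩

theorem mem_D6 {E : Subgroup (Sy φ)} {a : F} : a ∈ D6 E ↔ ∃ x ∈ E, x.x6 = a := Iff.rfl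

theorem card_eq_D6 (E : Subgroup (Sy φ)) : Nat.card E = Nat.card (D6 E) * Nat.card ↥(E ⊓ Q2 φ) := by
  have h := card_fib E (Q2 φ) ⊤ le_top (fun x => x.x6) (fun _ _ _ _ => rfl) (fun _ _ => Iff.rfl) (D6 E)
    (fun a => by rw [inf_top_eq]; rfl)
  rwa [inf_top_eq] at h

/-- `{(x.x1, x.x6) : x ∈ E}` -/
def D16 (E : Subgroup (Sy φ)) : AddSubgroup (K × F) where
  carrier := {a | ∃ x ∈ E, (x.x1, x.x6) = a}
  zero_mem' := ⟨1, E.one_mem, rfl⟩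
  add_mem' := by
    rintro _ _ ⟨x, hx, rfl⟩ ⟨y, hy, rfl⟩
    exact ⟨x * y, E.mul_mem hx hy, rfl⟩
  neg_mem' := by
    rintro _ ⟨x, hx, rfl⟩
    exact ⟨x⁻¹, E.inv_mem hx, rfl⟩

theorem mem_D16 {E : Subgroup (Sy φ)} {a : K × F} : a ∈ D16 E ↔ ∃ x ∈ E, (x.x1, x.x6) = a := Iff.rfl

theorem card_eq_D16 (E : Subgroup (Sy φ)) : Nat.card E = Nat.card (D16 E) * Nat.card ↥(E ⊓ Z4 φ) := by
  have h := card_fib E (Z4 φ) ⊤ le_top (fun x => (x.x1, x.x6)) (fun _ _ _ _ => rfl)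
    (fun x _ => by rw [Prod.mk_eq_zero]; rfl) (D16 E) (fun a => by rw [inf_top_eq]; rfl)
  rwa [inf_top_eq] at h

/-- `{(x.x1, x.x5) : x ∈ E ⊓ Q2}` -/
def D15 (E : Subgroup (Sy φ)) : AddSubgroup (K × K) where
  carrier := {a | ∃ x ∈ E ⊓ Q2 φ, (x.x1, x.x5) = a}
  zero_mem' := ⟨1, one_mem _, rfl⟩
  add_mem' := by
    rintro _ _ ⟨x, hx, rfl⟩ ⟨y, hy, rfl⟩
    refine ⟨x * y, mul_mem hx hy, ?_⟩
    have h : y.x6 = 0 := hy.2
    rw [mul_x1, mul_x5, h, zero_smul, add_zero]; rfl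
  neg_mem' := by
    rintro _ ⟨x, hx, rfl⟩
    refine ⟨x⁻¹, inv_mem hx, ?_⟩
    have h : x.x6 = 0 := hx.2
    rw [inv_x1, inv_x5, h, zero_smul, add_zero]; rfl

theorem mem_D15 {E : Subgroup (Sy φ)} {a : K × K} : a ∈ D15 E ↔ ∃ x ∈ E ⊓ Q2 φ, (x.x1, x.x5) = a := Iff.rfl

theorem Z3_le_Q2 : Z3 φ ≤ Q2 φ := fun _ h => h.2.1

theorem card_eq_D15' (E : Subgroup (Sy φ)) :
    Nat.card ↥(E ⊓ Q2 φ) = Nat.card (D15 E) * Nat.card ↥(E ⊓ Z3 φ) := by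
  refine card_fib E (Z3 φ) (Q2 φ) Z3_le_Q2 (fun x => (x.x1, x.x5)) ?_ ?_ (D15 E) (fun a => Iff.rfl)
  · intro x _ y hy
    have h : y.x6 = 0 := hy
    rw [mul_x1, mul_x5, h, zero_smul, add_zero]; rfl
  · intro x hx
    have h : x.x6 = 0 := hx
    rw [Prod.mk_eq_zero, mem_Z3]
    tauto

theorem card_eq_D15 {E : Subgroup (Sy φ)} (hE : E ≤ Q2 φ) :
    Nat.card E = Nat.card (D15 E) * Nat.card ↥(E ⊓ Z3 φ) := by
  have h := card_eq_D15' E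
  rwa [inf_eq_left.2 hE] at h

/-- `{x.x5 : x ∈ E ⊓ Z4}` -/
def D5 (E : Subgroup (Sy φ)) : AddSubgroup K where
  carrier := {a | ∃ x ∈ E ⊓ Z4 φ, x.x5 = a}
  zero_mem' := ⟨1, one_mem _, rfl⟩
  add_mem' := by
    rintro _ _ ⟨x, hx, rfl⟩ ⟨y, hy, rfl⟩
    refine ⟨x * y, mul_mem hx hy, ?_⟩
    have h : y.x6 = 0 := hy.2.2
    rw [mul_x5, h, zero_smul, add_zero]
  neg_mem' := by
    rintro _ ⟨x, hx, rfl⟩
    refine ⟨x⁻¹, inv_mem hx, ?_⟩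
    have h : x.x6 = 0 := hx.2.2
    rw [inv_x5, h, zero_smul, add_zero]

theorem mem_D5 {E : Subgroup (Sy φ)} {a : K} : a ∈ D5 E ↔ ∃ x ∈ E ⊓ Z4 φ, x.x5 = a := Iff.rfl

theorem card_eq_D5 (E : Subgroup (Sy φ)) :
    Nat.card ↥(E ⊓ Z4 φ) = Nat.card (D5 E) * Nat.card ↥(E ⊓ Z3 φ) := by
  refine card_fib E (Z3 φ) (Z4 φ) Z3_le_Z4 (fun x => x.x5) ?_ ?_ (D5 E) (fun a => Iff.rfl)
  · intro x _ y hy
    have h : y.x6 = 0 := hy.2
    rw [mul_x5, h, zero_smul, add_zero]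
  · intro x hx
    rw [mem_Z4] at hx
    rw [mem_Z3]
    tauto

/-- `{x.x3 : x ∈ E ⊓ Z3}` -/
def D3 (E : Subgroup (Sy φ)) : AddSubgroup K where
  carrier := {a | ∃ x ∈ E ⊓ Z3 φ, x.x3 = a}
  zero_mem' := ⟨1, one_mem _, rfl⟩
  add_mem' := by
    rintro _ _ ⟨x, hx, rfl⟩ ⟨y, hy, rfl⟩
    refine ⟨x * y, mul_mem hx hy, ?_⟩
    have h : x.x1 = 0 := hx.2.1
    rw [mul_x3, h, cr_zero_left, sh_zero, smul_zero, add_zero, add_zero]
  neg_mem' := by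
    rintro _ ⟨x, hx, rfl⟩
    refine ⟨x⁻¹, inv_mem hx, ?_⟩
    have h : x.x1 = 0 := hx.2.1
    rw [inv_x3, h, cr_zero_left, sh_zero, smul_zero, sub_zero, add_zero]

theorem mem_D3 {E : Subgroup (Sy φ)} {a : K} : a ∈ D3 E ↔ ∃ x ∈ E ⊓ Z3 φ, x.x3 = a := Iff.rfl

theorem card_eq_D3 (E : Subgroup (Sy φ)) :
    Nat.card ↥(E ⊓ Z3 φ) = Nat.card (D3 E) * Nat.card ↥(E ⊓ Z2 φ) := by
  refine card_fib E (Z2 φ) (Z3 φ) Z2_le_Z3 (fun x => x.x3) ?_ ?_ (D3 E) (fun a => Iff.rfl)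
  · intro x hx y _
    have h : x.x1 = 0 := hx.1
    rw [mul_x3, h, cr_zero_left, sh_zero, smul_zero, add_zero, add_zero]
  · intro x hx
    rw [mem_Z3] at hx
    rw [mem_Z2]
    tauto

/-- `{x.x2 : x ∈ E ⊓ Z2}` -/
def D2 (E : Subgroup (Sy φ)) : AddSubgroup F where
  carrier := {a | ∃ x ∈ E ⊓ Z2 φ, x.x2 = a}
  zero_mem' := ⟨1, one_mem _, rfl⟩
  add_mem' := by
    rintro _ _ ⟨x, hx, rfl⟩ ⟨y, hy, rfl⟩
    refine ⟨x * y, mul_mem hx hy, ?_⟩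
    have h : x.x1 = 0 := hx.2.1
    rw [mul_x2, h, zero_mul, sh_zero, zero_mul, tr_zero, nm_zero, mul_zero, add_zero, add_zero, add_zero]
  neg_mem' := by
    rintro _ ⟨x, hx, rfl⟩
    refine ⟨x⁻¹, inv_mem hx, ?_⟩
    have h : x.x1 = 0 := hx.2.1
    rw [inv_x2, h, zero_mul, sh_zero, zero_mul, tr_zero, nm_zero, mul_zero, add_zero, sub_zero, add_zero]

theorem mem_D2 {E : Subgroup (Sy φ)} {a : F} : a ∈ D2 E ↔ ∃ x ∈ E ⊓ Z2 φ, x.x2 = a := Iff.rfl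

theorem card_eq_D2 (E : Subgroup (Sy φ)) :
    Nat.card ↥(E ⊓ Z2 φ) = Nat.card (D2 E) * Nat.card ↥(E ⊓ Z1 φ) := by
  refine card_fib E (Z1 φ) (Z2 φ) Z1_le_Z2 (fun x => x.x2) ?_ ?_ (D2 E) (fun a => Iff.rfl)
  · intro x hx y _
    have h : x.x1 = 0 := hx.1
    rw [mul_x2, h, zero_mul, sh_zero, zero_mul, tr_zero, nm_zero, mul_zero, add_zero, add_zero, add_zero]
  · intro x hx
    rw [mem_Z2] at hx
    rw [mem_Z1]
    tauto

/-- `{x.x4 : x ∈ E ⊓ Z1}` -/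
def D4 (E : Subgroup (Sy φ)) : AddSubgroup F where
  carrier := {a | ∃ x ∈ E ⊓ Z1 φ, x.x4 = a}
  zero_mem' := ⟨1, one_mem _, rfl⟩
  add_mem' := by
    rintro _ _ ⟨x, hx, rfl⟩ ⟨y, hy, rfl⟩
    refine ⟨x * y, mul_mem hx hy, ?_⟩
    obtain ⟨h1, h2, h3, h4, h5⟩ := hx.2
    obtain ⟨k1, k2, k3, k4, k5⟩ := hy.2
    rw [mul_x4, h1, h4, h5, k2]
    simp [tr_zero, nm_zero]
  neg_mem' := by
    rintro _ ⟨x, hx, rfl⟩
    refine ⟨x⁻¹, inv_mem hx, ?_⟩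
    obtain ⟨h1, h2, h3, h4, h5⟩ := hx.2
    rw [inv_x4, h1, h2, h3, h4, h5]
    simp [tr_zero, nm_zero]

theorem mem_D4 {E : Subgroup (Sy φ)} {a : F} : a ∈ D4 E ↔ ∃ x ∈ E ⊓ Z1 φ, x.x4 = a := Iff.rfl

theorem card_eq_D4 (E : Subgroup (Sy φ)) : Nat.card ↥(E ⊓ Z1 φ) = Nat.card (D4 E) := by
  rw [card_fib E ⊥ (Z1 φ) bot_le (fun x => x.x4) ?_ ?_ (D4 E) (fun a => Iff.rfl), inf_bot_eq,
    Subgroup.card_bot, mul_one]
  · intro x hx y hy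
    obtain ⟨h1, h2, h3, h4, h5⟩ := hx
    obtain ⟨k1, k2, k3, k4, k5⟩ := hy
    rw [mul_x4, h1, h4, h5, k2]
    simp [tr_zero, nm_zero]
  · intro x hx
    rw [Subgroup.mem_bot]
    constructor
    · intro h
      rw [eq_u4 hx, h]; rfl
    · rintro rfl
      rfl

/-- `|K : K ∩ H| |H ∩ K| = |K|` -/
theorem relIndex_mul_card {G : Type*} [Group G] (H K : Subgroup G) :
    H.relIndex K * Nat.card ↥(H ⊓ K) = Nat.card K := by
  have h := (H.subgroupOf K).card_mul_index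
  rw [mul_comm] at h
  rw [← h, Subgroup.relIndex]
  congr 1
  rw [← Subgroup.inf_subgroupOf_right H K]
  exact Nat.card_congr (Subgroup.subgroupOfEquivOfLe inf_le_right).toEquiv.symm

/-- `|K : H| |H| = |K|` for `H ≤ K` -/
theorem relIndex_mul_card' {G : Type*} [Group G] {H K : Subgroup G} (h : H ≤ K) :
    H.relIndex K * Nat.card H = Nat.card K := by
  have h1 := relIndex_mul_card H K
  rwa [inf_eq_left.2 h] at h1

/-! ### membership -/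

theorem D1_eq_bot {E : Subgroup (Sy φ)} : D1 E = ⊥ ↔ E ≤ Q1 φ := by
  rw [AddSubgroup.eq_bot_iff_forall]
  exact ⟨fun h x hx => h _ ⟨x, hx, rfl⟩, fun h a ⟨x, hx, hx'⟩ => hx' ▸ h hx⟩

theorem D6_eq_bot {E : Subgroup (Sy φ)} : D6 E = ⊥ ↔ E ≤ Q2 φ := by
  rw [AddSubgroup.eq_bot_iff_forall]
  exact ⟨fun h x hx => h _ ⟨x, hx, rfl⟩, fun h a ⟨x, hx, hx'⟩ => hx' ▸ h hx⟩

/-- A coordinate of a subgroup containing the kernel determines membership: `x1`. -/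
theorem mem_of_x1 {E : Subgroup (Sy φ)} (h : Q1 φ ≤ E) {x : Sy φ} : x ∈ E ↔ x.x1 ∈ D1 E := by
  refine ⟨fun hx => ⟨x, hx, rfl⟩, ?_⟩
  rintro ⟨y, hy, hyx⟩
  have h1 : y⁻¹ * x ∈ Q1 φ := by
    rw [mem_Q1, mul_x1, inv_x1, hyx, neg_add_cancel]
  have h2 : x = y * (y⁻¹ * x) := by group
  rw [h2]
  exact E.mul_mem hy (h h1)

/-- A coordinate of a subgroup containing the kernel determines membership: `(x1, x6)`. -/
theorem mem_of_x16 {E : Subgroup (Sy φ)} (h : Z4 φ ≤ E) {x : Sy φ} : x ∈ E ↔ (x.x1, x.x6) ∈ D16 E := by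
  refine ⟨fun hx => ⟨x, hx, rfl⟩, ?_⟩
  rintro ⟨y, hy, hyx⟩
  obtain ⟨e1, e6⟩ := Prod.ext_iff.1 hyx
  have h1 : y⁻¹ * x ∈ Z4 φ := by
    rw [mem_Z4, mul_x1, inv_x1, mul_x6, inv_x6]
    simp only at e1 e6
    rw [e1, e6, neg_add_cancel, neg_add_cancel]
    exact ⟨rfl, rfl⟩
  have h2 : x = y * (y⁻¹ * x) := by group
  rw [h2]
  exact E.mul_mem hy (h h1)

/-- the same for `x ∈ Q2` and `(x1, x5)`. -/
theorem mem_of_x15 {E : Subgroup (Sy φ)} (h : Z3 φ ≤ E) {x : Sy φ} (hx : x ∈ Q2 φ) :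
    x ∈ E ↔ (x.x1, x.x5) ∈ D15 E := by
  refine ⟨fun hx' => ⟨x, ⟨hx', hx⟩, rfl⟩, ?_⟩
  rintro ⟨y, hy, hyx⟩
  obtain ⟨e1, e5⟩ := Prod.ext_iff.1 hyx
  simp only at e1 e5
  have hx6 : x.x6 = 0 := hx
  have hy6 : y.x6 = 0 := hy.2
  have h1 : y⁻¹ * x ∈ Z3 φ := by
    rw [mem_Z3, mul_x1, inv_x1, mul_x6, inv_x6, mul_x5, inv_x5, hx6, hy6, e1, e5]
    simp
  have h2 : x = y * (y⁻¹ * x) := by group
  rw [h2]
  exact E.mul_mem hy.1 (h h1)

/-- the same for `x ∈ Z4` and `x5`. -/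
theorem mem_of_x5 {E : Subgroup (Sy φ)} (h : Z3 φ ≤ E) {x : Sy φ} (hx : x ∈ Z4 φ) : x ∈ E ↔ x.x5 ∈ D5 E := by
  refine ⟨fun hx' => ⟨x, ⟨hx', hx⟩, rfl⟩, ?_⟩
  rintro ⟨y, hy, hyx⟩
  have hx6 : x.x6 = 0 := hx.2
  have hy6 : y.x6 = 0 := hy.2.2
  have hx1 : x.x1 = 0 := hx.1
  have hy1 : y.x1 = 0 := hy.2.1
  have h1 : y⁻¹ * x ∈ Z3 φ := by
    rw [mem_Z3, mul_x1, inv_x1, mul_x6, inv_x6, mul_x5, inv_x5, hx6, hy6, hx1, hy1, hyx]
    simp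
  have h2 : x = y * (y⁻¹ * x) := by group
  rw [h2]
  exact E.mul_mem hy.1 (h h1)

/-- the same for `x ∈ Z3` and `x3`. -/
theorem mem_of_x3 {E : Subgroup (Sy φ)} (h : Z2 φ ≤ E) {x : Sy φ} (hx : x ∈ Z3 φ) : x ∈ E ↔ x.x3 ∈ D3 E := by
  refine ⟨fun hx' => ⟨x, ⟨hx', hx⟩, rfl⟩, ?_⟩
  rintro ⟨y, hy, hyx⟩
  obtain ⟨a1, a6, a5⟩ := hx
  obtain ⟨b1, b6, b5⟩ := hy.2
  have h1 : y⁻¹ * x ∈ Z2 φ := by
    rw [mem_Z2, mul_x1, inv_x1, mul_x6, inv_x6, mul_x5, inv_x5, mul_x3, inv_x3, inv_x1, a1, a6, a5, b1, b6, b5, hyx]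
    simp [cr]
  have h2 : x = y * (y⁻¹ * x) := by group
  rw [h2]
  exact E.mul_mem hy.1 (h h1)

/-- the same for `x ∈ Z2` and `x2`. -/
theorem mem_of_x2 {E : Subgroup (Sy φ)} (h : Z1 φ ≤ E) {x : Sy φ} (hx : x ∈ Z2 φ) : x ∈ E ↔ x.x2 ∈ D2 E := by
  refine ⟨fun hx' => ⟨x, ⟨hx', hx⟩, rfl⟩, ?_⟩
  rintro ⟨y, hy, hyx⟩
  obtain ⟨a1, a6, a5, a3⟩ := hx
  obtain ⟨b1, b6, b5, b3⟩ := hy.2
  have h1 : y⁻¹ * x ∈ Z1 φ := by
    rw [mem_Z1, mul_x1, inv_x1, mul_x6, inv_x6, mul_x5, inv_x5, mul_x3, inv_x3, mul_x2, inv_x2, inv_x1, a1, a6, a5, a3,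
      b1, b6, b5, b3, hyx]
    simp [cr, sh, tr_zero]
  have h2 : x = y * (y⁻¹ * x) := by group
  rw [h2]
  exact E.mul_mem hy.1 (h h1)

end Images

end Cfsg.Agent.H521.TE.Ord
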